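import Cfsg.Agent.OD.Pre
import Cfsg.Agent.H6.J4S.p2_0
import Cfsg.Agent.H6.J4S.p2_1
import Cfsg.Agent.H6.J4S.p2_2
import Cfsg.Agent.H6.J4S.p2_3
set_option autoImplicit false
set_option maxRecDepth 100000
set_option Elab.async false
set_option linter.all false
namespace CfH6.J4S
open CfH6
theorem p2h0 : ∀ c ∈ [p2o0, p2o1], InR J4M.ok J4M.sem J4M.φ.range c := by
  have := J4M.D.slp_outs (forall_app (forall_nil) cols) _ [(58, p2o0), (0, p2o1)] p2b0
  simp only [List.map_cons, List.map_nil] at this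
  exact this
theorem ip2o0 : InR J4M.ok J4M.sem J4M.φ.range p2o0 := p2h0 _ (List.Mem.head _)
theorem ip2o1 : InR J4M.ok J4M.sem J4M.φ.range p2o1 := p2h0 _ (List.Mem.tail _ (List.Mem.head _))
theorem p2h1 : ∀ c ∈ [p2o2, p2o3, p2o4, p2o5], InR J4M.ok J4M.sem J4M.φ.range c := by
  have := J4M.D.slp_outs (forall_app (forall_cons ip2o0 (forall_cons ip2o1 (forall_nil))) cols) _ [(83, p2o2), (10, p2o3), (5, p2o4), (0, p2o5)] p2b1
  simp only [List.map_cons, List.map_nil] at this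
  exact this
theorem ip2o2 : InR J4M.ok J4M.sem J4M.φ.range p2o2 := p2h1 _ (List.Mem.head _)
theorem ip2o3 : InR J4M.ok J4M.sem J4M.φ.range p2o3 := p2h1 _ (List.Mem.tail _ (List.Mem.head _))
theorem ip2o4 : InR J4M.ok J4M.sem J4M.φ.range p2o4 := p2h1 _ (List.Mem.tail _ (List.Mem.tail _ (List.Mem.head _)))
theorem ip2o5 : InR J4M.ok J4M.sem J4M.φ.range p2o5 := p2h1 _ (List.Mem.tail _ (List.Mem.tail _ (List.Mem.tail _ (List.Mem.head _))))
theorem p2h2 : ∀ c ∈ [p2o6, p2o7, p2o8, p2o9, p2o10, p2o11, p2o12, p2o13, p2o14], InR J4M.ok J4M.sem J4M.φ.range c := by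
  have := J4M.D.slp_outs (forall_app (forall_cons ip2o2 (forall_cons ip2o3 (forall_cons ip2o4 (forall_cons ip2o5 (forall_nil))))) cols) _ [(50, p2o6), (46, p2o7), (43, p2o8), (39, p2o9), (31, p2o10), (24, p2o11), (15, p2o12), (8, p2o13), (0, p2o14)] p2b2
  simp only [List.map_cons, List.map_nil] at this
  exact this
theorem ip2o6 : InR J4M.ok J4M.sem J4M.φ.range p2o6 := p2h2 _ (List.Mem.head _)
theorem ip2o7 : InR J4M.ok J4M.sem J4M.φ.range p2o7 := p2h2 _ (List.Mem.tail _ (List.Mem.head _))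
theorem ip2o8 : InR J4M.ok J4M.sem J4M.φ.range p2o8 := p2h2 _ (List.Mem.tail _ (List.Mem.tail _ (List.Mem.head _)))
theorem ip2o9 : InR J4M.ok J4M.sem J4M.φ.range p2o9 := p2h2 _ (List.Mem.tail _ (List.Mem.tail _ (List.Mem.tail _ (List.Mem.head _))))
theorem ip2o10 : InR J4M.ok J4M.sem J4M.φ.range p2o10 := p2h2 _ (List.Mem.tail _ (List.Mem.tail _ (List.Mem.tail _ (List.Mem.tail _ (List.Mem.head _)))))
theorem ip2o11 : InR J4M.ok J4M.sem J4M.φ.range p2o11 := p2h2 _ (List.Mem.tail _ (List.Mem.tail _ (List.Mem.tail _ (List.Mem.tail _ (List.Mem.tail _ (List.Mem.head _))))))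
theorem ip2o12 : InR J4M.ok J4M.sem J4M.φ.range p2o12 := p2h2 _ (List.Mem.tail _ (List.Mem.tail _ (List.Mem.tail _ (List.Mem.tail _ (List.Mem.tail _ (List.Mem.tail _ (List.Mem.head _)))))))
theorem ip2o13 : InR J4M.ok J4M.sem J4M.φ.range p2o13 := p2h2 _ (List.Mem.tail _ (List.Mem.tail _ (List.Mem.tail _ (List.Mem.tail _ (List.Mem.tail _ (List.Mem.tail _ (List.Mem.tail _ (List.Mem.head _))))))))
theorem ip2o14 : InR J4M.ok J4M.sem J4M.φ.range p2o14 := p2h2 _ (List.Mem.tail _ (List.Mem.tail _ (List.Mem.tail _ (List.Mem.tail _ (List.Mem.tail _ (List.Mem.tail _ (List.Mem.tail _ (List.Mem.tail _ (List.Mem.head _)))))))))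
theorem p2 : 2097152 ∣ Nat.card J4M.φ.range := MP.slp_dvd J4M.D (forall_app (forall_cons ip2o6 (forall_cons ip2o7 (forall_cons ip2o8 (forall_cons ip2o9 (forall_cons ip2o10 (forall_cons ip2o11 (forall_cons ip2o12 (forall_cons ip2o13 (forall_cons ip2o14 (forall_nil)))))))))) cols) _ _ _ _ _ p2b3
end CfH6.J4S
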