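import Cfsg.Agent.OD.Pre
import Cfsg.Agent.H6.J4S.C
set_option autoImplicit false
set_option maxRecDepth 100000
set_option Elab.async false
set_option linter.all false
namespace CfH6.J4S
open CfH6
noncomputable def p23X : ℕ := (nat_lit 0xc796e01043fb80cd1194622b31906d03e1ed86e6dd9086cf25e8fd4bcc3be0ad0f4e1a6b36bd02441ac0e190b88ff77b3fa6c185cee11c48904b2e562ea29e744fea8424267e1d9b417d537f1460a5c7c088d3e2d6a0e6651765838f6497c9a8ab9101c965ee3d7ac316dcdcd8e54bb3a5639238b87b37faa303d9afa1234290380f2eb1568ee34ee09dd0678d9e1303bbaa56c211acb5e7b5bbe4da33260252ecb7421ea7d32f5ef48b5edb6a12b3e4383373c62bfaa88906fbfd1d5842c96ce6745a0b15141588be8af3a30c319a871437cd49558ee88692a6c0c29e1b5ef2c8880e16a3bae271003803586097c819a42fa03997ada169bd50366fb191eddcd451b8f9c5e0717d71891e77d8350b63d38cb73737deccee4020eb3b42406beac45e0c031997034cec9a0957a701eb6d666b8e880000200000000000000000000000)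
end CfH6.J4S
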