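import Cfsg.Agent.OD.Pre
import Cfsg.Agent.H6.J4S.C
set_option autoImplicit false
set_option maxRecDepth 100000
set_option Elab.async false
set_option linter.all false
namespace CfH6.J4S
open CfH6
noncomputable def p29X : ℕ := (nat_lit 0x30b462cf1a07bb85ab8e1d143669b6318462ad1226cafe3b0f3c535f825685db9d208521be09fd75e9a809d6dbf412d54b75ea419682292b018de31ffafc2209706ac9c5760345dfec245f8dade272781bcaa6a30d69525a4879cbbfa5b54b8ea388fc99683a161e5645a16a7b52afc10169325594e157909f106c070193a3c81c92c7299be4a3f2a3603e35da889c81f39114ad8cd4fdbafcf857974eebd8650fb621ecf28d9998fc472145e546a17c13b1a82d966d7fe94a0a9e8325b1ddab79d021e2bc7a323acc570f9841fc7e863af515a3b0c27cbb6ffffd150ea12a5be31b5829daf1cd2a7826d89e3413157a6ad524e9fc2c325e5ae46cfdd5e7b061bb716264b98519374ed9089048d445d34bb5cdc36c630c036bbba23585bb87811c79d4c4bd19872d52fa827a82ba2527a16873dfdfe418373a3fbdd25b2cdc4d51a203be3eeb18dfd3aee9d666ad1aa924c6823f28bfa2a80d646252098a9dfae383b95a5cdaf0123a6684a6c3260f35e5e3202f447a92cf7432d8aeea10217edf02e88f081fe25c0400000000000000000000000000)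
end CfH6.J4S
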