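import Cfsg.Agent.OD.Pre
import Cfsg.Agent.H6.J4S.C
set_option autoImplicit false
set_option maxRecDepth 100000
set_option Elab.async false
set_option linter.all false
namespace CfH6.J4S
open CfH6
noncomputable def p31X : ℕ := (nat_lit 0xb0fe11321731dc6082dfc8fbe63bf5c083c727adcb7fd61d3bce5911bf38e3101b9be37de62ed1f62bda1467c1a29fc2b62b4b82435b0625caac74ebeb46465d25d0462b0bb2d3c9724c7c2cbd91208fcace7d9e7c622a3b31ab5540c4d2cae3811a5fc1b83b4f437cfe7a3ce5aa88608c664c2d57c22f2ae072f71b0d62b2749e7512ceb91a29ba6d072874cf76a4cdb9c614f6af101d0d754e96eff01ef54ab1f2fc73fe44d5bec015577fe7adc03d0d0818a8a6dc228800743aa9862ad6d85a4f331933f634949dbb2d41e7e4581d5af8eb5e4b7b22f70f2476d49b860e18acae17fd8804d865167c422b05f4a0f6def00b59b766df804a158cc40651aa95fcd998e06fe74053156e7c1ad868d831e8a46cc25bc271776d5b2b68afc04eb28c3db6212c680ceee95dfd521fdb715954e5cc39b78b057101fd57132abe2c6c1d0a24abbb6b9989fb02b1f3250a878584c60f2c209d10e734849c78444187dcadaff1d793d2cc0acde24166b73ec3f0c63f425e77981e8e623a1ce7b5d3a15f182d8ddbcd58d2fe810f0b269528aae87440bd16a05a245392d678de56ec48e9dd4a2b0e0000000000000000000020000000)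
end CfH6.J4S
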