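import Cfsg.Agent.OD.Pre
import Cfsg.Agent.H6.J4S.C
set_option autoImplicit false
set_option maxRecDepth 100000
set_option Elab.async false
set_option linter.all false
namespace CfH6.J4S
open CfH6
noncomputable def p37X : ℕ := (nat_lit 0x765eda70b76ea410edd8002ba585bf34d3e55c845bfab05884e4dd82e5f67eeec5105af194b918f850f6fde29a61e4955e098a1f6882fde600a43ebdd9f226150b4eb8cf88485cd13a30a121a82eac910ebcf03832f608584280ddd000215e10ebf3c51fbc2010b02181a25866ae3fde71cc280824f2f2f73e86bfc3045015bc19b7d86e9eb1a1923f1daad2472de2983418bf6f8a704334babf60a45389fc347536addbbfe62d5d2ffefbbed7c329d07bef9e0b77f190fd8d112198dbe18056d030881786f43fbde55f6009aaa04c4a09d34da34da7ba44d14120e80e8e3ec69796c4d81ec7d354f441282fa9a12dc60d53a7f75fe03a2c343bc820656c0a7f9e681c374d8316cfd8c7dab759506fe81cae29a1d9e7b2419bd2ef7e920b97a1f5acbea8be2cca8fbc72000750d80c36a29bd2b05d92a3a44408a2bb980dac25fc470a2ecd9d55197c4f1128f1e36a833148ed63a0dbffa727a93533b282260a07042a5aa480d3e77b0fcf37914e4f650af5da945b84c84a429e7b6f25d8a34e1b2442ccfabec8154a25879c19e1ffa44604fd438337ee456b599be4c29fff4ca2acd257d6eb1e61bed089ca99c5289b45148421c4cd21867b50623db9b9791753098e973f5c0e4b93f4703282896e1ebacdf2895174bb087cd6a432bed67b8162c36d6de3395a2ea0df16b8708100da66e9d596c99d36fa0000000000000040000000000000)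
end CfH6.J4S
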