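import Cfsg.Agent.OD.Pre
import Cfsg.Agent.H6.J4S.C
set_option autoImplicit false
set_option maxRecDepth 100000
set_option Elab.async false
set_option linter.all false
namespace CfH6.J4S
open CfH6
noncomputable def p43X : ℕ := (nat_lit 0xc35dc8e33d34e37fbf7e8e0b5a9b6ad28c03d3e37f601ef0e22d148d90a2bf6ec273c806264cdf915b066831d46413918f939d735c5c547dc7b16279d0244261a40a6777772f5a4a59079b37d9a1d98e54cc2fb5e2f975a59cb685adbc911b14d02a7631731c6a308a3e245629b6734f3eb373b0a427f28b11f1f876bc990173979d0e39a5b6c0c8d0806005f34dcf8e39cb7795cf3c07c7f054e98a73915fc5f12498dc08587b85a62702864e2473ea0f228af3d495ce5cad70ffc2f7d83b0d23f9ed3b5179c447437a5de1428393c615d32a0b23bd87694116390ec8de37f86713bca6404c624ee79710cd52ce9be432fa6f6bd5fdbf93cfdb6f77c6c71c27e0595b203c4e8cacfa609e93048e4554fd48d1a31a3bf832c027e77c5520bfe9415d50fb05e3978d29ddfe84204a51aab0dff50ff88f9f14256263a4bd916c2948303d4d99068fbe5b1e88e10e6e69ea346b4a94f362b784a2d7fc64afa2ef4611d9065ad73df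e7a8fe9a23195d04a7a39704f100b7f9ef508b154372ff21a882170dae2af01b442bd1a277c82138451c544ab477d97105d1a49b10a87009720e981db312f160283f54f542c269ffec1269b74c1780e3ff9936f9b9c031188b5f20155409b6d6c6333d22fd9de04a82a73bacc54bc94a8e0b5e5168a28de3c794f12bc98a760d74cee5d97c9528cdddaf33c6147f231c311e0f1f06703fe3265c21343489d9324f28a1536c6b3b3e8c8c7266c7beb1c29b7a1bfb58e7c19f904e3978805478b6c1f1e3f764cf3180d8cf48253d4640c8970399cde9891c902142abdc61d46dd80b7e2afca930000000000000000000000000004)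
end CfH6.J4S
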